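import Cfsg.Agent.H752.Mp

/-!
# Intersections of fusion systems (helper756)
-/

set_option autoImplicit false

namespace Cfsg.Agent.H756

open Cfsg Cfsg.FusionSystem Cfsg.Agent.H752

variable {Ω : Type*} [Group Ω] {S : Subgroup Ω}

/-- The intersection of a nonempty family of fusion systems over `S`. -/
def interSys (𝒢 : Set (FusionSystem S)) (h : 𝒢.Nonempty) : FusionSystem S where
  Hom P := {φ | ∀ E ∈ 𝒢, φ ∈ E.Hom P}
  le_of_mem := by
    intro P φ hφ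
    obtain ⟨E, hE⟩ := h
    exact E.le_of_mem (hφ E hE)
  injective_of_mem := by
    intro P φ hφ
    obtain ⟨E, hE⟩ := h
    exact E.injective_of_mem (hφ E hE)
  conj_mem := fun hP hg E _ => E.conj_mem hP hg
  comp_mem := fun hφ hψ h E hE => E.comp_mem (hφ E hE) (hψ E hE) h
  inv_mem := by
    intro P φ hφ
    obtain ⟨E, hE⟩ := h
    obtain ⟨ψ, hψ, he⟩ := E.inv_mem (hφ E hE)
    refine ⟨ψ, fun E' hE' => ?_, he⟩
    obtain ⟨ψ', hψ', he'⟩ := E'.inv_mem (hφ E' hE')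
    have : ψ = ψ' := by
      ext y
      obtain ⟨_, x, rfl⟩ := y
      rw [he, he']
    rw [this]
    exact hψ'

theorem interSys_le {𝒢 : Set (FusionSystem S)} {h : 𝒢.Nonempty} {E : FusionSystem S}
    (hE : E ∈ 𝒢) : interSys 𝒢 h ≤ E := fun _ _ hφ => hφ E hE

theorem le_interSys {𝒢 : Set (FusionSystem S)} {h : 𝒢.Nonempty} {P : Subgroup Ω}
    {φ : P →* Ω} (hφ : ∀ E ∈ 𝒢, φ ∈ E.Hom P) : φ ∈ (interSys 𝒢 h).Hom P := hφ

theorem mp_interSys_iff {𝒢 : Set (FusionSystem S)} {h : 𝒢.Nonempty} {P : Subgroup Ω}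
    {f : Ω → Ω} : Mp (interSys 𝒢 h) P f ↔ ∀ E ∈ 𝒢, Mp E P f := by
  constructor
  · rintro ⟨φ, hφ, he⟩ E hE
    exact ⟨φ, hφ E hE, he⟩
  · intro hf
    obtain ⟨E₀, hE₀⟩ := h
    obtain ⟨φ, hφ, he⟩ := hf E₀ hE₀
    exact ⟨φ, fun E hE => (hf E hE).mem_hom he, he⟩

theorem autGroup_interSys {𝒢 : Set (FusionSystem S)} {h : 𝒢.Nonempty} {P : Subgroup Ω}
    (hP : P ≤ S) {α : MulAut P} :
    α ∈ (interSys 𝒢 h).autGroup P ↔ ∀ E ∈ 𝒢, α ∈ E.autGroup P := by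
  rw [H802.mem_autGroup_iff _ hP]
  constructor
  · intro hα E hE
    exact (H802.mem_autGroup_iff _ hP _).2 (hα E hE)
  · intro hα E hE
    exact (H802.mem_autGroup_iff _ hP _).1 (hα E hE)

end Cfsg.Agent.H756
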