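import Cfsg.Agent.S5110
import Cfsg.Agent.S5114
import Cfsg.Agent.H756.Inter

/-!
# Saturated subsystems of index prime to `p` (helper756)

`exists_primeIndex`: a criterion for the existence of saturated subsystems of index prime to `p`.
-/

set_option autoImplicit false

namespace Cfsg.Agent.H756

open Cfsg Cfsg.FusionSystem Cfsg.Agent.H752

variable {Ω : Type*} [Group Ω] {S : Subgroup Ω} {F F₁ : FusionSystem S} {p : ℕ}

/-- Extension closure: an `F`-map whose restriction to an `F`-centric subgroup is in `F₁` is in `F₁`, given the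
Frattini condition and the extension closure for automorphisms of `S`. -/
theorem ext_closed [Finite S] (hle : F₁ ≤ F)
    (hb : ∀ (P : Subgroup Ω) (a : Ω → Ω), F.IsCentric P → Mp F S a → Mp F₁ P a → Mp F₁ S a)
    (hfr : ∀ (P : Subgroup Ω) (f : Ω → Ω), Mp F P f → FratC F₁ F P f)
    {P Q : Subgroup Ω} {f : Ω → Ω} (hPQ : P ≤ Q) (hP : F.IsCentric P) (hf : Mp F Q f)
    (hf₁ : Mp F₁ P f) : Mp F₁ Q f := by
  obtain ⟨a, ha, f₀, hf₀, h1⟩ := hfr Q f hf
  obtain ⟨R, hR, hRS, -⟩ := hf₀.exists_image hPQ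
  obtain ⟨g, hg, h2, h3⟩ := hf₀.exists_symm hPQ hR
  have hRc : F.IsCentric R := by
    refine H802.isCentric_of_isConj hP ?_
    obtain ⟨φ, hφ, hφe⟩ := hf₀.res hPQ
    refine ⟨φ, hle _ hφ, ?_⟩
    ext y
    rw [hR y]
    constructor
    · rintro ⟨x, rfl⟩
      exact ⟨x, x.2, (hφe x x.2).symm⟩
    · rintro ⟨x, hx, rfl⟩
      exact ⟨⟨x, hx⟩, hφe x hx⟩
  have h4 : Mp F₁ R a := by
    refine (hg.comp hf₁ fun y hy => (h3 y hy).1).congr fun y hy => ?_
    have h5 := h3 y hy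
    show a y = f (g y)
    rw [h1 _ (hPQ h5.1), h5.2]
  have h6 := hb R a hRc ha h4
  exact (hf₀.comp h6 fun x hx => hf₀.mem hx).congr h1

/-- **Criterion for subsystems of index prime to `p`.** -/
theorem exists_primeIndex [Finite S] [Fact p.Prime] (hS : IsPGroup p S) (hF : F.IsSaturated p)
    (hle : F₁ ≤ F)
    (ha : ∀ P : Subgroup Ω, F.IsCentric P →
      (Subgroup.closure {α : ↥(F.autGroup P) | ∃ k : ℕ, orderOf α = p ^ k}).map
        (F.autGroup P).subtype ≤ F₁.autGroup P)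
    (hb : ∀ (P : Subgroup Ω) (a : Ω → Ω), F.IsCentric P → Mp F S a → Mp F₁ P a → Mp F₁ S a) :
    ∃ F₂ : FusionSystem S, F₂.IsSaturated p ∧ F₂.HasPrimeToPIndexIn F p ∧ F₂ ≤ F₁ ∧
      ∀ P : Subgroup Ω, F.IsCentric P → F₂.Hom P = F₁.Hom P := by
  let 𝒢 : Set (FusionSystem S) := {E | ∀ P : Subgroup Ω, F.IsCentric P → F₁.Hom P ⊆ E.Hom P}
  have h𝒢 : 𝒢.Nonempty := ⟨F₁, fun P _ => subset_rfl⟩
  let F₂ := interSys 𝒢 h𝒢
  have h21 : F₂ ≤ F₁ := interSys_le (fun P _ => subset_rfl)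
  have h2F : F₂ ≤ F := fun P => (h21 P).trans (hle P)
  have h12 : ∀ P : Subgroup Ω, F.IsCentric P → F₁.Hom P ⊆ F₂.Hom P :=
    fun P hP φ hφ E hE => hE P hP hφ
  have hmp : ∀ (P : Subgroup Ω) (f : Ω → Ω), F.IsCentric P → Mp F₁ P f → Mp F₂ P f := by
    rintro P f hP ⟨φ, hφ, he⟩
    exact ⟨φ, h12 P hP hφ, he⟩
  have hSc : F.IsCentric S := by
    refine ⟨le_rfl, ?_⟩
    rintro Q ⟨φ, hφ, rfl⟩
    have h1 : φ.range = S := H802.range_eq_of_mapsTo hφ fun x => (F.le_of_mem hφ).2 x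
    rw [h1]
    exact inf_le_left
  have ha₂ : ∀ P : Subgroup Ω, F.IsCentric P →
      (Subgroup.closure {α : ↥(F.autGroup P) | ∃ k : ℕ, orderOf α = p ^ k}).map
        (F.autGroup P).subtype ≤ F₂.autGroup P := by
    intro P hP
    refine (ha P hP).trans fun α hα => ?_
    rw [H802.mem_autGroup_iff _ hP.1] at hα ⊢
    exact h12 P hP hα
  obtain ⟨hidx, hfr, hcen⟩ := Cfsg.Agent.S5114.result p hS F hF F₂ h2F ha₂
  -- Frattini condition in terms of `Mp`
  have hfr' : ∀ (P : Subgroup Ω) (f : Ω → Ω), Mp F P f → FratC F₂ F P f := by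
    rintro P f ⟨φ, hφ, he⟩
    obtain ⟨α, hα, φ₀, hφ₀, h1⟩ := hfr P φ hφ
    refine ⟨_, (mp_iff_autGroup le_rfl α).1 hα, _, mp_ex hφ₀, fun x hx => ?_⟩
    have h2 : φ₀ ⟨x, hx⟩ ∈ S := (F₂.le_of_mem hφ₀).2 _
    rw [← he x hx, h1 ⟨x, hx⟩ h2, ex_apply (φ₀ : P → Ω) hx, ex_apply _ h2]
  have hb₂ : ∀ (P : Subgroup Ω) (a : Ω → Ω), F.IsCentric P → Mp F S a → Mp F₂ P a → Mp F₂ S a :=
    fun P a hP ha' h => hmp S a hSc (hb P a hP ha' (mp_mono (E := F₂) h21 h))
  refine ⟨F₂, ?_, hidx, h21, fun P hP => Set.Subset.antisymm (h21 P) (h12 P hP)⟩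
  refine Cfsg.Agent.S5110.result p hS F₂ {P | F.IsCentric P} (fun P hP => hP.1) ?_ ?_ ?_ ?_
  · rintro P hP Q ⟨φ, hφ, hr⟩
    exact H802.isCentric_of_isConj hP ⟨φ, h2F P hφ, hr⟩
  · intro P hP
    obtain ⟨Q, ⟨φ, hφ, hφQ⟩, hQ⟩ := H802.exists_isFullyNormalized hS hF hP.1
    obtain ⟨a, ha', f₀, hf₀, h1⟩ := hfr' P (ex φ) (mp_ex hφ)
    obtain ⟨b, hb', hba, hab⟩ := exists_aut_inv H751.stronglyClosed_top ha'
    obtain ⟨φ₀, hφ₀, h3⟩ := hf₀
    -- the image of `φ₀` is fully normalized in `F`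
    have hSfin : Finite (normalizerIn S φ₀.range) := H802.finite_of_le inf_le_left
    have hQ₀ : F.IsFullyNormalized φ₀.range := by
      refine ⟨H802.range_le_of_mem hφ₀, fun R hR => ?_⟩
      have hconj : F.IsConj Q R := by
        refine H802.isConj_trans (H802.isConj_symm ⟨φ, hφ, hφQ⟩) ?_
        exact H802.isConj_trans ⟨φ₀, h2F _ hφ₀, rfl⟩ hR
      refine (hQ.2 R hconj).trans ?_
      -- `b` carries `N_S(Q)` into `N_S(φ₀.range)`
      refine H802.card_le_of_maps (R := S) (ψ := ?_) ?_ inf_le_left ?_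
      · exact hb'.choose
      · exact F.injective_of_mem hb'.choose_spec.1
      · intro x hx
        have hbx : hb'.choose ⟨x, hx.1⟩ = b x := hb'.choose_spec.2 x hx.1
        rw [hbx]
        refine ⟨(hab x hx.1).1, ?_⟩
        have hQS : Q ≤ S := hQ.1
        have haQ : ∀ y ∈ φ₀.range, a y ∈ Q := by
          rintro _ ⟨z, rfl⟩
          rw [← hφQ]
          refine ⟨z, ?_⟩
          rw [← ex_coe (φ : P → Ω) z, h1 z z.2, ← h3 z z.2]
        have hbQ : ∀ y ∈ Q, b y ∈ φ₀.range := by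
          intro y hy
          rw [← hφQ] at hy
          obtain ⟨z, rfl⟩ := hy
          refine ⟨z, ?_⟩
          rw [← ex_coe (φ : P → Ω) z, h1 z z.2, ← h3 z z.2,
            hba _ ((F₂.le_of_mem hφ₀).2 _)]
        have hrS : φ₀.range ≤ S := H802.range_le_of_mem hφ₀
        have key : ∀ z ∈ normalizerIn S Q, ∀ y ∈ φ₀.range, b z * y * (b z)⁻¹ ∈ φ₀.range := by
          intro z hz y hy
          have hy' : y = b (a y) := (hba y (hrS hy)).symm
          have hay : a y ∈ S := hQS (haQ y hy)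
          have h5 : b z * y * (b z)⁻¹ = b (z * a y * z⁻¹) := by
            rw [hb'.mul (mul_mem hz.1 hay) (inv_mem hz.1), hb'.mul hz.1 hay, hb'.inv hz.1, ← hy']
          rw [h5]
          exact hbQ _ ((Subgroup.mem_normalizer_iff.1 hz.2 _).1 (haQ y hy))
        show b x ∈ Subgroup.normalizer (φ₀.range : Set Ω)
        refine Subgroup.mem_normalizer_iff.2 fun y => ?_
        refine ⟨key x hx y, fun hy => ?_⟩
        have h6 := key x⁻¹ (inv_mem hx) _ hy
        rw [hb'.inv hx.1] at h6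
        have h7 : (b x)⁻¹ * (b x * y * (b x)⁻¹) * (b x)⁻¹⁻¹ = y := by group
        rwa [h7] at h6
    refine ⟨φ₀.range, ⟨φ₀, hφ₀, rfl⟩, ?_, ?_⟩
    · exact H802.isFullyAutomized_of_le hS h2F (H802.isFullyAutomized_of_isFullyNormalized hS hF hQ₀)
    · refine ⟨hQ₀.1, fun R χ hχ hr => ?_⟩
      obtain ⟨ψ, hψ, hψe⟩ := (H802.isReceptive_of_isFullyNormalized hS hF hQ₀).2 R χ (h2F _ hχ) hr
      refine ⟨ψ, ?_, hψe⟩
      have hRS : R ≤ S := H802.hom_le hχ
      have hle' : R ≤ extender S R χ := H802.le_extender hRS (H802.hom_apply_mem (h2F _ hχ))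
      have hRc : F.IsCentric R := by
        refine H802.isCentric_of_isConj hP ?_
        exact H802.isConj_trans ⟨φ₀, h2F _ hφ₀, rfl⟩ (H802.isConj_symm ⟨χ, h2F _ hχ, hr⟩)
      have h5 : Mp F₂ (extender S R χ) (ex ψ) := by
        refine ext_closed h2F hb₂ hfr' hle' hRc (mp_ex hψ) ?_
        refine (mp_ex hχ).congr fun x hx => ?_
        rw [ex_apply _ (hle' hx), ex_apply _ hx]
        exact hψe x hx (hle' hx)
      exact h5.mem_hom fun x hx => (ex_apply _ hx).symm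
  · intro E hE P φ hφ
    refine hφ E fun Q hQ => (h12 Q hQ).trans (hE Q hQ)
  · intro P hP hP'
    exact absurd ((hcen P).1 hP) hP'

end Cfsg.Agent.H756
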