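import Cfsg.Agent.H757.GrpLemmas
import Cfsg.Agent.H752.Gen

/-!
# Alperin's fusion theorem in a finite group, as an induction principle (helper756)
-/

set_option autoImplicit false

namespace Cfsg.Agent.H756

open Subgroup H802

theorem isPGroup_zpowers {G : Type*} [Group G] {p : ℕ} {a : G} {k : ℕ} (h : orderOf a = p ^ k) :
    IsPGroup p (zpowers a) := IsPGroup.of_card (n := k) (by rw [Nat.card_zpowers, h])

theorem card_lt_inf_normalizer {G : Type*} [Group G] [Finite G] {p : ℕ} [Fact p.Prime]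
    {V L : Subgroup G} (hV : IsPGroup p V) (hL : L ≤ V) (hne : L ≠ V) :
    Nat.card L < Nat.card (V ⊓ normalizer (L : Set G) : Subgroup G) := by
  obtain ⟨u, hu, huL, hun⟩ := H757.exists_normalizes_of_not_le hV (U := V) (V := L) le_rfl hL
    (fun r hr u hu => mul_mem (mul_mem hr hu) (inv_mem hr)) fun h => hne (le_antisymm hL h)
  have hle : L ≤ V ⊓ normalizer (L : Set G) := le_inf hL le_normalizer
  by_contra h
  have h1 := Subgroup.eq_of_le_of_card_ge hle (not_lt.1 h)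
  exact huL (by rw [h1]; exact ⟨hu, hun⟩)

theorem alp_induction {G : Type*} [Group G] [Finite G] {p : ℕ} [Fact p.Prime] {A V : Subgroup G}
    (hV : SylIn p V A) (D : Subgroup G → G → Prop)
    (h_res : ∀ (K K' : Subgroup G) (a : G), K ≤ K' → D K' a → D K a)
    (h_comp : ∀ (K K' : Subgroup G) (a b : G), K ≤ V → K' ≤ V → a ∈ A → b ∈ A →
      (∀ k ∈ K, a * k * a⁻¹ ∈ K') → D K a → D K' b → D K (b * a))
    (h_inv : ∀ (K K' : Subgroup G) (a : G), K ≤ V → K' ≤ V → a ∈ A →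
      (∀ k ∈ K', a⁻¹ * k * a ∈ K) → D K a → D K' a⁻¹)
    (h_cop : ∀ (K : Subgroup G) (a : G), K ≤ V → a ∈ A → (∀ k ∈ K, a * k * a⁻¹ ∈ K) →
      Nat.Coprime (orderOf a) p → D K a)
    (h_V : ∀ v ∈ V, D V v) :
    ∀ (K : Subgroup G) (a : G), K ≤ V → a ∈ A → (∀ k ∈ K, a * k * a⁻¹ ∈ V) → D K a := by
  have hAf : Finite A := inferInstance
  intro K a hK ha hKa
  induction hn : Nat.card V - Nat.card K using Nat.strong_induction_on generalizing K a with
  | _ n IH =>
  by_cases hKV : K = V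
  · subst hKV
    obtain ⟨i, j, hij, ⟨k, hk⟩, hj⟩ := TwoFusion.PResidual.exists_pPart_mul_pPrimePart p a
    have hnor : a ∈ normalizer (K : Set G) := H757.mem_normalizer_of_conj_mem hKa
    have hSylN : SylIn p K (A ⊓ normalizer (K : Set G)) :=
      hV.mono (le_inf hV.le le_normalizer) inf_le_left
    have hai : a ^ i ∈ K := by
      obtain ⟨m, hm, h⟩ := hSylN.exists_conj (B := zpowers (a ^ i))
        (by rw [zpowers_le]; exact ⟨zpow_mem ha i, zpow_mem hnor i⟩) (isPGroup_zpowers hk)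
      have h1 := h _ (mem_zpowers _)
      have h2 := (mem_normalizer_iff.1 hm.2 (a ^ i)).2 h1
      exact h2
    have hajn : ∀ k ∈ K, a ^ j * k * (a ^ j)⁻¹ ∈ K := fun k hk =>
      (mem_normalizer_iff.1 (zpow_mem hnor j) k).1 hk
    rw [hij]
    exact h_comp K K _ _ le_rfl le_rfl (zpow_mem ha j) (zpow_mem ha i) hajn
      (h_cop K _ le_rfl (zpow_mem ha j) hajn hj) (h_V _ hai)
  · obtain ⟨c, hcA, hcV, hSyl⟩ := H757.exists_conj_fully hV hK
    set Kc := K.map (MulAut.conj c).toMonoidHom with hKc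
    have hlt : Nat.card K < Nat.card V := by
      by_contra h
      exact hKV (Subgroup.eq_of_le_of_card_ge hK (not_lt.1 h))
    -- moving a conjugate onto `Kc`
    have key : ∀ (L : Subgroup G) (x : G), L ≤ V → x ∈ A → L.map (MulAut.conj x).toMonoidHom = Kc →
        ∃ b ∈ A, (∀ l ∈ L, b * l * b⁻¹ ∈ Kc) ∧ (∀ y ∈ Kc, b⁻¹ * y * b ∈ L) ∧ D L b := by
      intro L x hL hx hLx
      have hLcard : Nat.card L = Nat.card K := by
        rw [← card_map_conj x L, hLx, hKc, card_map_conj]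
      have hB : (V ⊓ normalizer (L : Set G)).map (MulAut.conj x).toMonoidHom ≤
          A ⊓ normalizer (Kc : Set G) := by
        rintro _ ⟨y, hy, rfl⟩
        refine ⟨A.mul_mem (A.mul_mem hx (hV.le hy.1)) (A.inv_mem hx), ?_⟩
        refine H757.mem_normalizer_of_conj_mem fun w hw => ?_
        rw [← hLx] at hw
        obtain ⟨l, hl, rfl⟩ := hw
        rw [← hLx]
        refine ⟨y * l * y⁻¹, (mem_normalizer_iff.1 hy.2 l).1 hl, ?_⟩
        show x * (y * l * y⁻¹) * x⁻¹ = x * y * x⁻¹ * (x * l * x⁻¹) * (x * y * x⁻¹)⁻¹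
        group
      obtain ⟨m, hm, h⟩ := hSyl.exists_conj hB ((hV.isPGroup.to_le inf_le_left).map _)
      have hmx : m * x ∈ A := mul_mem hm.1 hx
      have hL1 : ∀ l ∈ L, m * x * l * (m * x)⁻¹ ∈ Kc := by
        intro l hl
        have h1 : x * l * x⁻¹ ∈ Kc := by rw [← hLx]; exact ⟨l, hl, rfl⟩
        have h2 := (mem_normalizer_iff.1 hm.2 _).1 h1
        have h3 : m * x * l * (m * x)⁻¹ = m * (x * l * x⁻¹) * m⁻¹ := by group
        rw [h3]; exact h2
      have hL2 : ∀ y ∈ Kc, (m * x)⁻¹ * y * (m * x) ∈ L := by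
        intro y hy
        have h1 := (mem_normalizer_iff.1 (inv_mem hm.2) y).1 hy
        rw [← hLx] at h1
        obtain ⟨l, hl, hl2⟩ := h1
        have h2 : x * l * x⁻¹ = m⁻¹ * y * m⁻¹⁻¹ := hl2
        have h3 : (m * x)⁻¹ * y * (m * x) = x⁻¹ * (m⁻¹ * y * m⁻¹⁻¹) * x := by group
        rw [h3, ← h2]
        have h4 : x⁻¹ * (x * l * x⁻¹) * x = l := by group
        rw [h4]; exact hl
      refine ⟨m * x, hmx, hL1, hL2, ?_⟩
      have hLne : L ≠ V := fun h => hlt.ne (by rw [← hLcard, h])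
      have hgrow := card_lt_inf_normalizer hV.isPGroup hL hLne
      have hle : Nat.card (V ⊓ normalizer (L : Set G) : Subgroup G) ≤ Nat.card V :=
        Subgroup.card_le_of_le inf_le_left
      refine h_res L _ _ (le_inf hL le_normalizer)
        (IH (Nat.card V - Nat.card (V ⊓ normalizer (L : Set G) : Subgroup G)) ?_ _ _ inf_le_left hmx
          (fun k hk => ?_) rfl)
      · rw [← hn]; omega
      · have h1 := h (x * k * x⁻¹) ⟨k, hk, rfl⟩
        have h2 : m * x * k * (m * x)⁻¹ = m * (x * k * x⁻¹) * m⁻¹ := by group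
        rw [h2]; exact h1.1
    set Ka := K.map (MulAut.conj a).toMonoidHom with hKa'
    have hKaV : Ka ≤ V := by
      rintro _ ⟨k, hk, rfl⟩
      exact hKa k hk
    obtain ⟨b₁, hb₁A, hb₁, hb₁', hDb₁⟩ := key K c hK hcA rfl
    obtain ⟨b₂, hb₂A, hb₂, hb₂', hDb₂⟩ := key Ka (c * a⁻¹) hKaV (mul_mem hcA (inv_mem ha)) (by
      ext y
      constructor
      · rintro ⟨_, ⟨k, hk, rfl⟩, rfl⟩
        refine ⟨k, hk, ?_⟩
        show c * k * c⁻¹ = c * a⁻¹ * (a * k * a⁻¹) * (c * a⁻¹)⁻¹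
        group
      · rintro ⟨k, hk, rfl⟩
        refine ⟨a * k * a⁻¹, ⟨k, hk, rfl⟩, ?_⟩
        show c * a⁻¹ * (a * k * a⁻¹) * (c * a⁻¹)⁻¹ = c * k * c⁻¹
        group)
    -- the element normalizing `Kc`
    set m := b₂ * a * b₁⁻¹ with hm
    have hmA : m ∈ A := mul_mem (mul_mem hb₂A ha) (inv_mem hb₁A)
    have hmn : m ∈ normalizer (Kc : Set G) := by
      refine H757.mem_normalizer_of_conj_mem fun y hy => ?_
      have h1 := hb₁' y hy
      have h2 := hb₂ _ (⟨_, h1, rfl⟩ : a * (b₁⁻¹ * y * b₁) * a⁻¹ ∈ Ka)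
      have h3 : m * y * m⁻¹ = b₂ * (a * (b₁⁻¹ * y * b₁) * a⁻¹) * b₂⁻¹ := by rw [hm]; group
      rw [h3]; exact h2
    have hDm : D Kc m := by
      have hfin : Finite ↥(A ⊓ normalizer (Kc : Set G)) := inferInstance
      obtain ⟨R, hR⟩ := hSyl.exists_sylow
      obtain ⟨r, hr, b, hb, hrb⟩ := H752.exists_residual_mul R
        (⟨m, hmA, hmn⟩ : ↥(A ⊓ normalizer (Kc : Set G)))
      have hbV : (b : G) ∈ V ⊓ normalizer (Kc : Set G) := by
        rw [hR] at hb; exact hb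
      have hbn : ∀ x : ↥(A ⊓ normalizer (Kc : Set G)), ∀ k ∈ Kc, (x : G) * k * (x : G)⁻¹ ∈ Kc :=
        fun x k hk => (mem_normalizer_iff.1 x.2.2 k).1 hk
      have hDr : D Kc (r : G) := by
        refine Subgroup.closure_induction (G := ↥(A ⊓ normalizer (Kc : Set G)))
          (k := {g | Nat.Coprime (orderOf g) p}) (p := fun x _ => D Kc (x : G)) ?_ ?_ ?_ ?_ hr
        · intro x hx
          exact h_cop Kc x hcV x.2.1 (hbn x) (by rw [Subgroup.orderOf_coe]; exact hx)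
        · exact h_res _ _ _ hcV (h_V 1 (one_mem V))
        · intro x y _ _ hx hy
          exact h_comp Kc Kc y x hcV hcV y.2.1 x.2.1 (hbn y) hy hx
        · intro x _ hx
          refine h_inv Kc Kc x hcV hcV x.2.1 (fun k hk => ?_) hx
          have := hbn x⁻¹ k hk
          simpa using this
      have hDb : D Kc (b : G) := h_res _ _ _ hcV (h_V _ hbV.1)
      have h1 : m = (r : G) * b := congrArg Subtype.val hrb
      rw [h1]
      exact h_comp Kc Kc b r hcV hcV b.2.1 r.2.1 (hbn b) hDb hDr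
    have h1 : D K (m * b₁) := h_comp K Kc b₁ m hK hcV hb₁A hmA hb₁ hDb₁ hDm
    have h2 : D Kc b₂⁻¹ := h_inv Ka Kc b₂ hKaV hcV hb₂A hb₂' hDb₂
    have h3 : D K (b₂⁻¹ * (m * b₁)) := by
      refine h_comp K Kc (m * b₁) b₂⁻¹ hK hcV (mul_mem hmA hb₁A) (inv_mem hb₂A) (fun k hk => ?_) h1 h2
      have h4 := (mem_normalizer_iff.1 hmn _).1 (hb₁ k hk)
      have h5 : m * b₁ * k * (m * b₁)⁻¹ = m * (b₁ * k * b₁⁻¹) * m⁻¹ := by group
      rw [h5]; exact h4
    have h4 : b₂⁻¹ * (m * b₁) = a := by rw [hm]; group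
    rwa [h4] at h3

end Cfsg.Agent.H756
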