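import Mathlib.GroupTheory.Focal
import Cfsg.Agent.H757.GrpLemmas

/-!
# A transfer lemma (helper756)
-/

set_option autoImplicit false

namespace Cfsg.Agent.H756

open Subgroup H802
open scoped commutatorElement

/-- `V` Sylow in `G`, `V = U X` with `[G, X] ≤ U` and `U` strongly closed in `V`: some normal subgroup `K` contains
all `p'`-elements and `U`, and meets `V` in `U`. -/
theorem exists_normal_transfer_sylow {G : Type*} [Group G] [Finite G] {p : ℕ} [Fact p.Prime]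
    (V : Sylow p G) {U X : Subgroup G} (hUV : U ≤ V) (hXV : X ≤ V)
    (hVX : ∀ v ∈ (V : Subgroup G), ∃ u ∈ U, ∃ x ∈ X, u * x = v)
    (hc : ∀ (a : G), ∀ x ∈ X, a * x * a⁻¹ * x⁻¹ ∈ U)
    (hsc : ∀ (a : G), ∀ u ∈ U, a * u * a⁻¹ ∈ (V : Subgroup G) → a * u * a⁻¹ ∈ U) :
    ∃ K : Subgroup G, K.Normal ∧ (∀ a : G, (orderOf a).Coprime p → a ∈ K) ∧ U ≤ K ∧
      K ⊓ (V : Subgroup G) ≤ U := by
  have hfoc : (V : Subgroup G).focalSubgroup ≤ U := by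
    rw [focalSubgroup_def, closure_le]
    rintro g ⟨hg, x, hx, u, rfl⟩
    -- `x u x⁻¹ u⁻¹ = x (u x u⁻¹)⁻¹`
    obtain ⟨s, hs, y, hy, rfl⟩ := hVX x hx
    have h1 : u * (s * y) * u⁻¹ ∈ (V : Subgroup G) := by
      have h2 : u * (s * y) * u⁻¹ = ⁅s * y, u⁆⁻¹ * (s * y) := by
        rw [commutatorElement_def]; group
      rw [h2]
      exact mul_mem (inv_mem hg) hx
    have h3 := hc u y hy
    have h4 : u * s * u⁻¹ ∈ (V : Subgroup G) := by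
      have h5 : u * s * u⁻¹ = u * (s * y) * u⁻¹ * y⁻¹ * (u * y * u⁻¹ * y⁻¹)⁻¹ := by group
      rw [h5]
      exact mul_mem (mul_mem h1 (inv_mem (hXV hy))) (inv_mem (hUV h3))
    have h6 := hsc u s hs h4
    -- `[s y, u] = s y u y⁻¹ s⁻¹ u⁻¹ = s (u y u⁻¹ y⁻¹)⁻¹ (u s u⁻¹)⁻¹`
    have h7 : ⁅s * y, u⁆ = s * (u * y * u⁻¹ * y⁻¹)⁻¹ * (u * s * u⁻¹)⁻¹ := by
      rw [commutatorElement_def]; group
    show ⁅s * y, u⁆ ∈ U
    rw [h7]
    exact mul_mem (mul_mem hs (inv_mem h3)) (inv_mem h6)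
  let Vs : Subgroup G := V
  let q := QuotientGroup.mk' (Vs.focalSubgroupOf)
  let Ub : Subgroup (Vs ⧸ Vs.focalSubgroupOf) := (U.subgroupOf Vs).map q
  have hQ : IsPGroup p (Vs ⧸ Vs.focalSubgroupOf) := V.2.to_quotient _
  let K : Subgroup G := Ub.comap (V : Subgroup G).transferFocal
  have hcomm : ∀ a b : Vs ⧸ Vs.focalSubgroupOf, a * b = b * a := fun a b => mul_comm' a b
  have hK : K.Normal := by
    refine ⟨fun n hn g => ?_⟩
    show (V : Subgroup G).transferFocal (g * n * g⁻¹) ∈ Ub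
    rw [map_mul, map_mul, map_inv, hcomm, inv_mul_cancel_left]
    exact hn
  have htr : ∀ x : Vs, (V : Subgroup G).transferFocal x = (q x) ^ V.index :=
    fun x => (V : Subgroup G).transferFocal_eq_pow x
  refine ⟨K, hK, ?_, ?_, ?_⟩
  · intro a ha
    show (V : Subgroup G).transferFocal a ∈ Ub
    have h1 : (V : Subgroup G).transferFocal a = 1 := by
      rw [← orderOf_eq_one_iff]
      obtain ⟨k, hk⟩ := hQ ((V : Subgroup G).transferFocal a)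
      have h2 := orderOf_dvd_of_pow_eq_one hk
      have h3 : orderOf ((V : Subgroup G).transferFocal a) ∣ orderOf a := orderOf_map_dvd _ a
      exact Nat.eq_one_of_dvd_coprimes (Nat.Coprime.pow_right k ha) h3 h2
    rw [h1]
    exact one_mem _
  · intro u hu
    show (V : Subgroup G).transferFocal u ∈ Ub
    have := htr ⟨u, hUV hu⟩
    rw [show ((⟨u, hUV hu⟩ : Vs) : G) = u from rfl] at this
    rw [this]
    exact pow_mem (mem_map_of_mem q (show (⟨u, hUV hu⟩ : Vs) ∈ U.subgroupOf Vs from hu)) _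
  · rintro v ⟨hvK, hvV⟩
    have h1 : (V : Subgroup G).transferFocal v ∈ Ub := hvK
    have := htr ⟨v, hvV⟩
    rw [show ((⟨v, hvV⟩ : Vs) : G) = v from rfl] at this
    rw [this] at h1
    -- the index is prime to `p`
    obtain ⟨k, hk⟩ := hQ (q ⟨v, hvV⟩)
    have hcop : Nat.Coprime V.index (orderOf (q ⟨v, hvV⟩)) := by
      have h2 : orderOf (q ⟨v, hvV⟩) ∣ p ^ k := orderOf_dvd_of_pow_eq_one hk
      have h3 : Nat.Coprime V.index p :=
        ((Fact.out : p.Prime).coprime_iff_not_dvd.2 V.not_dvd_index).symm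
      exact Nat.Coprime.coprime_dvd_right h2 (Nat.Coprime.pow_right k h3)
    obtain ⟨m, hm⟩ := exists_pow_eq_self_of_coprime hcop
    have h4 : q ⟨v, hvV⟩ ∈ Ub := by
      rw [← hm]
      exact pow_mem h1 m
    obtain ⟨⟨w, hw⟩, hwU, hwq⟩ := h4
    have hwU' : w ∈ U := hwU
    have h5 : (⟨w, hw⟩ : Vs)⁻¹ * ⟨v, hvV⟩ ∈ Vs.focalSubgroupOf := QuotientGroup.eq.1 hwq
    have h6 : w⁻¹ * v ∈ U := hfoc h5
    have h7 : v = w * (w⁻¹ * v) := by group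
    rw [h7]
    exact mul_mem hwU' h6

/-- The relative form of `exists_normal_transfer_sylow`. -/
theorem exists_normal_transfer {G : Type*} [Group G] [Finite G] {p : ℕ} [Fact p.Prime]
    {A V U X : Subgroup G} (hV : SylIn p V A) (hUV : U ≤ V) (hXV : X ≤ V)
    (hVX : ∀ v ∈ V, ∃ u ∈ U, ∃ x ∈ X, u * x = v)
    (hc : ∀ a ∈ A, ∀ x ∈ X, a * x * a⁻¹ * x⁻¹ ∈ U)
    (hsc : ∀ a ∈ A, ∀ u ∈ U, a * u * a⁻¹ ∈ V → a * u * a⁻¹ ∈ U) :
    ∃ K : Subgroup G, K ≤ A ∧ (∀ a ∈ A, ∀ k ∈ K, a * k * a⁻¹ ∈ K) ∧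
      (∀ a ∈ A, (orderOf a).Coprime p → a ∈ K) ∧ U ≤ K ∧ K ⊓ V ≤ U := by
  obtain ⟨R, hR⟩ := hV.exists_sylow
  have hRV : ∀ x : A, x ∈ (R : Subgroup A) ↔ (x : G) ∈ V := fun x => by
    rw [hR, mem_subgroupOf]
  obtain ⟨K, hKn, hKc, hKU, hKV⟩ := exists_normal_transfer_sylow R (U := U.subgroupOf A)
    (X := X.subgroupOf A) (fun x hx => (hRV x).2 (hUV hx)) (fun x hx => (hRV x).2 (hXV hx))
    (fun v hv => by
      obtain ⟨u, hu, x, hx, h⟩ := hVX v ((hRV v).1 hv)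
      exact ⟨⟨u, hV.le (hUV hu)⟩, hu, ⟨x, hV.le (hXV hx)⟩, hx, Subtype.ext h⟩)
    (fun a x hx => hc a a.2 x hx)
    (fun a u hu h => hsc a a.2 u hu ((hRV _).1 h))
  refine ⟨K.map A.subtype, ?_, ?_, ?_, ?_, ?_⟩
  · rintro _ ⟨x, -, rfl⟩
    exact x.2
  · rintro a ha _ ⟨x, hx, rfl⟩
    exact ⟨_, hKn.conj_mem x hx ⟨a, ha⟩, rfl⟩
  · intro a ha hac
    exact ⟨⟨a, ha⟩, hKc _ (by rwa [Subgroup.orderOf_mk]), rfl⟩
  · intro u hu
    exact ⟨⟨u, hV.le (hUV hu)⟩, hKU hu, rfl⟩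
  · rintro _ ⟨⟨x, hx, rfl⟩, hxV⟩
    exact hKV ⟨hx, (hRV x).2 hxV⟩

end Cfsg.Agent.H756
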