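import Cfsg.Agent.H756.WeakA
import Cfsg.Agent.H756.PrimeIndex

/-!
# The `p'`-residual of a weakly normal subsystem lies in every weakly normal subsystem over the same subgroup
(helper756)
-/

set_option autoImplicit false

namespace Cfsg.Agent.H756

open Cfsg Cfsg.FusionSystem Cfsg.Agent.H752

variable {Ω : Type*} [Group Ω] {S T : Subgroup Ω} {F : FusionSystem S} {D E : FusionSystem T} {p : ℕ}

/-- An element of `p`-power order of an automorphism group of `E` lies in every weakly normal `D` over the same `T`,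
for `E` a saturated subsystem over `T`. -/
theorem mem_of_pow_eq_one [Finite S] [Fact p.Prime] (hEs : E.IsSaturated p)
    (hEF : E.IsSubsystemOf F) (hTS : T ≤ S) (hD : D.IsInvariantIn F) {P : Subgroup Ω} (hPT : P ≤ T)
    {α : MulAut P} (hα : α ∈ E.autGroup P) {k : ℕ} (hk : α ^ p ^ k = 1) : α ∈ D.autGroup P := by
  have hfT : Finite T := H802.finite_of_le hTS
  obtain ⟨-, hT, hI, hFr⟩ := isInvariantIn_iff.1 hD
  have hSI := strongInvC_of_invC hI hFr
  obtain ⟨φ, hφ, g, hg, he⟩ := H802.exists_conj_of_orderOf hEs hPT hα hk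
  have hf : Mp F P (ex φ) := mp_mono hEF (mp_ex hφ)
  obtain ⟨R, hR, -, -⟩ := hf.exists_image le_rfl
  obtain ⟨f', hf', h1, h2⟩ := hf.exists_symm le_rfl hR
  have hRT : R ≤ T := fun y hy => by
    obtain ⟨x, hx, rfl⟩ := (hR y).1 hy
    exact mp_mem_of_stronglyClosed hT hf hx (hPT hx)
  have key : ∀ (x : Ω) (hx : x ∈ P), ex φ (α ⟨x, hx⟩ : P) = g * ex φ x * g⁻¹ := by
    intro x hx
    rw [ex_coe, ex_apply (φ : P → Ω) hx]
    exact he ⟨x, hx⟩
  have hm : ∀ y ∈ R, g * y * g⁻¹ ∈ R := by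
    intro y hy
    obtain ⟨x, hx, rfl⟩ := (hR y).1 hy
    rw [← key x hx]
    exact (hR _).2 ⟨_, (α _).2, rfl⟩
  have h3 : Mp D P (ex fun x => ((α x : P) : Ω)) := by
    refine hSI R R P _ f' _ le_rfl hRT (mp_conj D hRT hg) hm hf' fun y hy => ?_
    refine ⟨ex φ y, (hR _).2 ⟨y, hy, rfl⟩, h1 y hy, ?_⟩
    rw [ex_apply _ hy, ← key y hy, h1 _ (α _).2]
  exact (mp_iff_autGroup hPT α).2 h3

/-- An automorphism of `T` in `E` a `p`-power of which lies in a weakly normal `D` lies in `D`. -/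
theorem mem_of_pow_mem [Finite S] [Fact p.Prime] (hEs : E.IsSaturated p)
    (hEF : E.IsSubsystemOf F) (hTS : T ≤ S) (hD : D.IsInvariantIn F) {α : MulAut T}
    (hα : α ∈ E.autGroup T) {k : ℕ} (hk : α ^ p ^ k ∈ D.autGroup T) : α ∈ D.autGroup T := by
  have hfT : Finite T := H802.finite_of_le hTS
  obtain ⟨a, b, hab, ⟨m, hm⟩, hb⟩ := TwoFusion.PResidual.exists_pPart_mul_pPrimePart p α
  have h1 : α ^ a ∈ D.autGroup T := by
    refine mem_of_pow_eq_one hEs hEF hTS hD le_rfl (Subgroup.zpow_mem _ hα a) (k := m) ?_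
    rw [← hm]
    exact pow_orderOf_eq_one _
  have h2 : α ^ b ∈ D.autGroup T := by
    obtain ⟨j, hj⟩ := exists_pow_eq_self_of_coprime (x := α ^ b) (n := p ^ k)
      (Nat.Coprime.pow_left k hb.symm)
    rw [← hj, ← zpow_natCast (α ^ b), ← zpow_mul, mul_comm b, zpow_mul, zpow_natCast]
    exact Subgroup.pow_mem _ (Subgroup.zpow_mem _ hk b) j
  rw [hab]
  exact mul_mem h1 h2

/-- **`O^{p'}(E) ≤ D`** for `E`, `D` weakly normal in `F` over the same `T`. -/
theorem residual_le [Finite S] [Fact p.Prime] (hS : IsPGroup p S) (hE : E.IsWeaklyNormalIn F p)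
    {R : FusionSystem T} (hR : E.IsPPrimeResidual p R) (hD : D.IsWeaklyNormalIn F p) :
    R.IsSubsystemOf D := by
  have hTc : F.StronglyClosed T := hD.2.2.2.1
  have hTS : T ≤ S := hTc.1
  have hfT : Finite T := H802.finite_of_le hTS
  have hTp : IsPGroup p T := hS.to_le hTS
  let 𝒢 : Set (FusionSystem T) := {E, D}
  have h𝒢 : 𝒢.Nonempty := ⟨E, Or.inl rfl⟩
  have hmem : ∀ {P : Subgroup Ω} {f : Ω → Ω}, Mp (interSys 𝒢 h𝒢) P f ↔ Mp E P f ∧ Mp D P f := by
    intro P f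
    rw [mp_interSys_iff]
    constructor
    · intro h
      exact ⟨h E (Or.inl rfl), h D (Or.inr rfl)⟩
    · rintro ⟨h1, h2⟩ X (rfl | rfl)
      · exact h1
      · exact h2
  obtain ⟨E₂, hE₂s, hE₂i, hle, -⟩ := exists_primeIndex (F := E) (F₁ := interSys 𝒢 h𝒢) hTp hE.1
    (interSys_le (Or.inl rfl))
    (fun P hP => by
      rw [Subgroup.map_le_iff_le_comap, Subgroup.closure_le]
      rintro ⟨α, hα⟩ ⟨k, hk⟩
      show α ∈ (interSys 𝒢 h𝒢).autGroup P
      have hk' : α ^ p ^ k = 1 := by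
        have := pow_orderOf_eq_one (⟨α, hα⟩ : E.autGroup P)
        rw [hk] at this
        exact congrArg Subtype.val this
      rw [autGroup_interSys hP.1]
      rintro X (rfl | rfl)
      · exact hα
      · exact mem_of_pow_eq_one hE.1 hE.2.2.1 hTS hD.2.2 hP.1 hα hk')
    (fun P a hP ha h => by
      rw [hmem] at h ⊢
      refine ⟨ha, ?_⟩
      obtain ⟨α, hα, hαe⟩ := ha.exists_aut fun x hx => ha.mem hx
      have hαF : α ∈ F.autGroup T :=
        (mp_iff_autGroup hTS α).2 (mp_mono hE.2.2.1 ((mp_iff_autGroup le_rfl α).1 hα))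
      have hPc : TC F T P := (isCentric_iff_tc hE.2.2).1 hP
      obtain ⟨k, hk⟩ := pow_mem_of_restrict hS hD P hPc α hαF (h.2.congr fun x hx => by
        rw [hαe x (hP.1 hx), ex_apply _ (hP.1 hx)])
      have h3 := mem_of_pow_mem hE.1 hE.2.2.1 hTS hD.2.2 hα hk
      exact mp_of_autGroup le_rfl h3 hαe)
  intro P φ hφ
  exact hle P (hR.2.2 E₂ hE₂s hE₂i P hφ) D (Or.inr rfl)

end Cfsg.Agent.H756
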